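import Cfsg.Agent.H111.GLB.E1a
import Cfsg.Agent.H112.GLB.Main
import Cfsg.Agent.H76.GLB.DE2
import Cfsg.Agent.H38.S4536.Part

/-!
# HUB S4536 / S4537, the exceptional case `p = 2`, weight 2 (E1)

* `rz_not_isCyclic_two`: abstract realization (`Rz`) of the standard model: if the family of `t₀` (one orbit, weight 2)
  is a block with defect group `D`, then `D ∩ S` is not cyclic, `S` the common kernel of the linear characters;
* `not_isCyclic_two_of`: the case of `GL_n(F)`; hypotheses: the bijection of the labels, GB5 (a family is one block), the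
  labels of the linear characters.
-/

set_option autoImplicit false
set_option linter.unusedSectionVars false

open Cfsg
open scoped ComplexConjugate

namespace Cfsg.Agent.H111.GLB

open Cfsg.Agent.H577.GLB.Std Cfsg.Agent.H614 Cfsg.Agent.H112.GLB
open Cfsg.Agent.H657 Cfsg.Agent.H608.BlockRank Cfsg.Agent.Blocks.Basic Cfsg.Agent.Blocks.Local
open Cfsg.Agent.H666.Clif (tl tl_apply isPBlock_tl eq_of_ibrUnder ibrUnder_tl)

universe u

section abs

variable {Q : ℤ} {M : ℕ} [NeZero M] {n : ℕ} {G : Type u} [Group G] [Finite G] (R : Rz Q M 2 n G)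
  {𝔐 : Ideal AlgInt} {V : ValuationSubring ℂ}

theorem card_partition_two : Fintype.card (Nat.Partition 2) = 2 := H38.S4536.card_partition_small.2.1

/-- Brauer characters in a family all of whose labels are fixed by `a` are fixed by the linear character with
label `a`. -/
theorem twist_phi_eq (h𝔐 : IsPModular 2 𝔐) (hV : Above 𝔐 V) {m : ℕ} (hm : n ≤ m) (hlab : R.Bij m)
    (t₀ : LabZ Q M m n) (a : ZMod M) (ha : TorZ Q M 1 a)
    (hfix : ∀ t : LabZ Q M m n, POnly M 2 t.t → SameFam Q M 2 t₀.t t.t → ∀ c, t.t (c + a) = t.t c)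
    (l : G →* ℂˣ) (hl : ∀ x ∈ Hom Q M n, R.om (twist Q M a x) = (fun g => (l g : ℂ)) * R.om x)
    {i : IBr V G}
    (hi : i ∈ ibrUnder V {χ : IrrCharacter G | ∃ t : LabZ Q M m n, R.IsLb χ t ∧ SameFam Q M 2 t₀.t t.t}) (g : G) :
    (l g : ℂ) * phi 2 i g = phi 2 i g := by
  have h := R.phi_mem_span' h𝔐 hV hm hlab t₀ hi
  let T : (G → ℂ) →ₗ[ℂ] (G → ℂ) := LinearMap.mulLeft ℂ (fun g => (l g : ℂ))
  have key : ∀ f ∈ Submodule.span ℂ ((fun t' : {t : LabZ Q M m n // POnly M 2 t.t} =>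
      R.om (tauP Q M 2 (SchP Q M t'.1.t))) '' {t' | SameFam Q M 2 t₀.t t'.1.t}), T f = f := by
    intro f hf
    induction hf using Submodule.span_induction with
    | mem f hf =>
      obtain ⟨t, ht, rfl⟩ := hf
      have h3 := hl _ (schP_mem_hom R.unit t.1)
      rw [H157.GLB.twist_SchP R.unit a ha t.1.t t.1.orb] at h3
      have h4 : (fun c => t.1.t (c - a)) = t.1.t := by
        funext c
        have h5 := hfix t.1 t.2 ht (c - a)
        rw [sub_add_cancel] at h5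
        exact h5.symm
      rw [h4] at h3
      have h1 : R.om (tauP Q M 2 (SchP Q M t.1.t)) = pReg 2 (R.om (SchP Q M t.1.t)) := R.om_tauP t.1
      show T (R.om (tauP Q M 2 (SchP Q M t.1.t))) = R.om (tauP Q M 2 (SchP Q M t.1.t))
      rw [h1]
      funext g
      show (l g : ℂ) * _ = _
      by_cases hg : IsPRegular 2 g
      · rw [pReg_of hg]
        exact (congrFun h3 g).symm
      · rw [pReg_of_not hg, mul_zero]
    | zero => rw [map_zero]
    | add f f' _ _ h h' => rw [map_add, h, h']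
    | smul c f _ h => rw [map_smul, h]
  exact congrFun (key _ h) g

/-- **E1** for an abstract realization. -/
theorem rz_not_isCyclic_two (h𝔐 : IsPModular 2 𝔐) {m : ℕ} (hm : n ≤ m) (hlab : R.Bij m)
    (hQ : (Q : ZMod 2) = 1) (t₀ : LabZ Q M m n) (h₀ : POnly M 2 t₀.t) (δ₀ : ZMod M)
    (h₁ : ∀ δ, 0 < bsz (t₀.t δ) → SameZ Q M δ₀ δ) (hw : bsz (t₀.t δ₀) = 2)
    {B : Set (IrrCharacter G)} (hB : IsPBlock 𝔐 B) {χ : IrrCharacter G} (hχ : χ ∈ B) (ht₀ : R.IsLb χ t₀)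
    (hone : ∀ (ψ : IrrCharacter G) (t : LabZ Q M m n), R.IsLb ψ t → SameFam Q M 2 t₀.t t.t → ψ ∈ B)
    (S : Subgroup G) [S.Normal] (hcyc : IsCyclic (G ⧸ S))
    (hlin : ∀ l : G →* ℂˣ, (∀ x ∈ S, l x = 1) → (orderOf l).Coprime 2 → ∃ a : ZMod M, TorZ Q M 1 a ∧
      PReg M 2 a ∧ ∀ x ∈ Hom Q M n, R.om (twist Q M a x) = (fun g => (l g : ℂ)) * R.om x)
    {D : Subgroup G} (hD : IsDefectGroup 2 𝔐 B D) : ¬ IsCyclic (D ⊓ S : Subgroup G) := by
  classical
  intro hDS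
  have hMp := isPrime_of_isPModular h𝔐
  have : Fact (Nat.Prime 2) := ⟨Nat.prime_two⟩
  obtain ⟨V, hV⟩ := exists_above h𝔐
  have : CharP (IsLocalRing.ResidueField V) 2 := hV.charP h𝔐
  obtain ⟨hc1, -, hc3⟩ := H76.GLB.card_family_one Nat.prime_two R.unit hQ hm t₀ h₀ δ₀ h₁
  rw [hw, card_partition_two] at hc1
  -- the members of `B`
  have hBfam : ∀ ψ ∈ B, ∃ t : LabZ Q M m n, R.IsLb ψ t ∧ SameFam Q M 2 t₀.t t.t := by
    intro ψ hψ
    obtain ⟨t, ht, -⟩ := hlab.1 ψ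
    exact ⟨t, ht, R.sameFam_of_mem h𝔐 hm hlab hB hχ hψ ht₀ ht⟩
  -- any two irreducible Brauer characters are equal
  have key : ∀ i ∈ ibrUnder V B, ∀ i' ∈ ibrUnder V B, i = i' := by
    intro i hi i' hi'
    obtain ⟨l, hl1, hl2, hl3⟩ := exists_twist_of_cyclic h𝔐 hV S hcyc hB hD hDS hi hi'
    obtain ⟨a, ha, ha', hla⟩ := hlin l hl1 hl2
    have e1 := ibrUnder_tl h𝔐 hV hB hl3 hi
    have e2 : B = tl l '' B := eq_of_ibrUnder h𝔐 hV hB (isPBlock_tl hMp l hB) hi' e1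
    have e3 : tl l χ ∈ B := by
      rw [e2]
      exact ⟨χ, hχ, rfl⟩
    have hst : Stab Q M 2 t₀ a := R.stab_of_block
      (fun χ hχ χ' hχ' t t' ht ht' => R.sameFam_of_mem h𝔐 hm hlab hB hχ hχ' ht ht') hχ e3 ht₀ a ha ha' hla
      (by funext g; rfl)
    obtain ⟨-, h5⟩ := hc3 a hst
    have hfin0 : Finite {t : LabZ Q M m n // POnly M 2 t.t ∧ SameFam Q M 2 t₀.t t.t ∧ ∀ c, t.t (c + 0) = t.t c} := by
      apply Nat.finite_of_card_ne_zero
      change nfix Q M 2 t₀ 0 ≠ 0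
      rw [hc1]
      norm_num
    have hfix : ∀ t : LabZ Q M m n, POnly M 2 t.t → SameFam Q M 2 t₀.t t.t → ∀ c, t.t (c + a) = t.t c := by
      intro t ht hf
      let ι : {t : LabZ Q M m n // POnly M 2 t.t ∧ SameFam Q M 2 t₀.t t.t ∧ ∀ c, t.t (c + a) = t.t c} →
          {t : LabZ Q M m n // POnly M 2 t.t ∧ SameFam Q M 2 t₀.t t.t ∧ ∀ c, t.t (c + 0) = t.t c} :=
        fun t => ⟨t.1, t.2.1, t.2.2.1, fun c => by rw [add_zero]⟩
      have hι : Function.Injective ι := fun x y hxy => Subtype.ext (congrArg (fun z => z.1) hxy)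
      have hι2 : Function.Surjective ι := by
        have hb := Function.Injective.bijective_of_nat_card_le hι (le_of_eq h5.symm)
        exact hb.2
      obtain ⟨t', ht'⟩ := hι2 ⟨t, ht, hf, fun c => by rw [add_zero]⟩
      have h6 : t'.1 = t := congrArg (fun z => z.1) ht'
      rw [← h6]
      exact t'.2.2.2
    have hi2 : i ∈ ibrUnder V {χ : IrrCharacter G | ∃ t : LabZ Q M m n, R.IsLb χ t ∧ SameFam Q M 2 t₀.t t.t} := by
      obtain ⟨ψ, hψ, hu⟩ := hi
      exact ⟨ψ, hBfam ψ hψ, hu⟩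
    have h7 : ∀ g, phi 2 i' g = phi 2 i g := fun g => by
      rw [hl3 g, twist_phi_eq R h𝔐 hV hm hlab t₀ a ha hfix l hla hi2 g]
    exact (H112.Clif.phi_injective h𝔐 hV (funext h7)).symm
  -- two linearly independent members
  let κ := {t : LabZ Q M m n // POnly M 2 t.t ∧ SameFam Q M 2 t₀.t t.t ∧ ∀ c, t.t (c + 0) = t.t c}
  have hcκ : Nat.card κ = 2 := hc1
  have : Finite κ := Nat.finite_of_card_ne_zero (by rw [hcκ]; norm_num)
  have := Fintype.ofFinite κ
  let b : κ → (G → ℂ) := fun t => R.om (tauP Q M 2 (SchP Q M t.1.t))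
  have hb : LinearIndependent ℂ b := by
    have h1 := (tauInd (Q := Q) (m := m) (n := n) Nat.prime_two R.unit)
    have h2 : LinearIndependent ℂ (fun t : κ => tauP Q M 2 (SchP Q M t.1.t)) :=
      h1.comp (fun t : κ => (⟨t.1, t.2.1⟩ : {t : LabZ Q M m n // POnly M 2 t.t}))
        fun x y hxy => Subtype.ext (congrArg (fun z => z.1) hxy)
    refine LinearIndependent.map_injOn h2 R.om (R.om_injOn.mono ?_)
    refine SetLike.coe_subset_coe.2 (Submodule.span_le.2 ?_)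
    rintro _ ⟨t, rfl⟩
    exact tauP_mem_hom 2 (schP_mem_hom R.unit t.1)
  have hbB : ∀ t, b t ∈ Submodule.span ℂ (phi 2 '' ibrUnder V B) := by
    intro t
    obtain ⟨ψ, ⟨s, hs⟩, -⟩ := hlab.2 t.1
    have hψ : ψ ∈ B := hone ψ t.1 ⟨s, hs⟩ t.2.2.1
    have h1 : b t = (((s : ℤ) : ℂ)) • pReg 2 (ψ : G → ℂ) := by
      show R.om _ = _
      rw [R.om_tauP, hs, map_smul]
    rw [h1, ← map_pReg_charSpan h𝔐 hV (H666.Clif.isUnion_of_isPBlock hMp hB)]
    exact Submodule.smul_mem _ _ ⟨_, Submodule.subset_span ⟨ψ, hψ, rfl⟩, rfl⟩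
  have hsub : Nat.card (ibrUnder V B) ≤ 1 := by
    have : Subsingleton (ibrUnder V B) := ⟨fun x y => Subtype.ext (key _ x.2 _ y.2)⟩
    exact Finite.card_le_one_iff_subsingleton.2 this
  rw [← finrank_span_phi (p := 2) (ibrUnder V B)] at hsub
  let b' : κ → Submodule.span ℂ (phi 2 '' ibrUnder V B) := fun t => ⟨b t, hbB t⟩
  have hb' : LinearIndependent ℂ b' := LinearIndependent.of_comp (Submodule.subtype _) hb
  have h8 := hb'.fintype_card_le_finrank
  rw [← Nat.card_eq_fintype_card, hcκ] at h8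
  omega

end abs

/-! ### `GL_n(F)` -/

section glsec

open Cfsg.Agent.H577.GLB.Real Cfsg.Agent.H614.GLn Cfsg.Agent.H624.Sl

variable {F K : Type u} [Field F] [Field K] [Algebra F K] {θ : K →*₀ ℂ} {N M : ℕ} [NeZero M]
  {𝔐 : Ideal AlgInt}

/-- the size of a finite field of odd characteristic is odd -/
theorem card_cast_two (F : Type u) [Field F] [Finite F] (hpF : 2 ≠ ringChar F) :
    (((Nat.card F : ℕ) : ℤ) : ZMod 2) = 1 := by
  have := Fintype.ofFinite F
  have h := FiniteField.odd_card_of_char_ne_two (F := F) (Ne.symm hpF)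
  rw [Int.cast_natCast, Nat.card_eq_fintype_card]
  have h2 : ((Fintype.card F : ℕ) : ZMod 2) = ((1 : ℕ) : ZMod 2) := by
    rw [ZMod.natCast_eq_natCast_iff]
    exact h
  rw [h2, Nat.cast_one]

theorem isCyclic_slS [Finite F] (n : ℕ) : IsCyclic (GL (Fin n) F ⧸ slS F n) := by
  have e : GL (Fin n) F ⧸ slS F n ≃* (Matrix.GeneralLinearGroup.det : GL (Fin n) F →* Fˣ).range :=
    QuotientGroup.quotientKerEquivRange _
  exact isCyclic_of_surjective e.symm e.symm.surjective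

theorem dch_eq_linHom (n : ℕ) (a : ZMod M) : dch n (linH F θ M a) = linHom F θ M n a := rfl

/-- **E1** (`not_isCyclic_two`), the labels of the irreducible characters, GB5 and the labels of the linear characters
as hypotheses. -/
theorem not_isCyclic_two_of [Finite F] (hctx : Ctx F θ N M) (hpF : 2 ≠ ringChar F) (h𝔐 : IsPModular 2 𝔐)
    {m n : ℕ} (hn : n ≤ N) (hm : n ≤ m) (hlab : LabBij F θ M m n) (t₀ : LabZ (Nat.card F) M m n)
    (h₀ : POnly M 2 t₀.t) (δ₀ : ZMod M) (h₁ : OnlyOn (Nat.card F) M δ₀ t₀.t) (hw : H577.GLB.Std.bsz (t₀.t δ₀) = 2)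
    (χ : IrrCharacter (GL (Fin n) F)) (hχ : IsLab θ M m n χ t₀)
    (hone : ∀ (ψ : IrrCharacter (GL (Fin n) F)) (t : LabZ (Nat.card F) M m n), IsLab θ M m n ψ t →
      SameFam (Nat.card F) M 2 t₀.t t.t → ψ ∈ blockOf 𝔐 (χ : GL (Fin n) F → ℂ))
    (hlin : ∀ l : GL (Fin n) F →* ℂˣ, (∀ x ∈ slS F n, l x = 1) → ∃ a : ZMod M, TorZ (Nat.card F) M 1 a ∧
      l = dch n (linH F θ M a))
    (hord : ∀ a : ZMod M, TorZ (Nat.card F) M 1 a → orderOf (dch n (linH F θ M a)) = addOrderOf a)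
    (D : Subgroup (GL (Fin n) F)) (hD : IsDefectGroup 2 𝔐 (blockOf 𝔐 (χ : GL (Fin n) F → ℂ)) D) :
    ¬ IsCyclic (D ⊓ slS F n : Subgroup (GL (Fin n) F)) := by
  have hMp := isPrime_of_isPModular h𝔐
  refine rz_not_isCyclic_two (GLrz hctx h𝔐.1 hpF hn) h𝔐 hm hlab (card_cast_two F hpF) t₀ h₀ δ₀ h₁ hw ⟨χ, rfl⟩
    (Blocks.Induced.sameBlock_refl hMp _) hχ hone (slS F n) (isCyclic_slS n) ?_ hD
  intro l hl ho
  obtain ⟨a, ha, rfl⟩ := hlin l hl
  exact ⟨a, ha, by rwa [hord a ha] at ho, om_twist hctx hn a ha⟩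

end glsec

end Cfsg.Agent.H111.GLB
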