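import Cfsg.Agent.H666.Clif.Desc
import Cfsg.Agent.H658.CyclicUse
import Cfsg.Agent.H648.HarrisKnorr
import Cfsg.Agent.H617.SmallRank

/-!
# A block whose defect group meets a normal subgroup with cyclic quotient in a cyclic group, `p = 2`

* `blockRank_le_one_of_cyclic`: a `2`-block with a cyclic defect group has at most one irreducible Brauer character;
* `exists_twist_of_cyclic`: if `D ∩ S` is cyclic, then any two irreducible Brauer characters of the block differ by a
  linear character of `G / S` of odd order.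
-/

set_option autoImplicit false
set_option linter.unusedSectionVars false

open Cfsg IsLocalRing Module
open scoped ComplexConjugate
open Cfsg.Agent.H657 Cfsg.Agent.H577.GLB
open Cfsg.Agent.H608.BlockRank Cfsg.Agent.Blocks.Basic Cfsg.Agent.Blocks.Local

namespace Cfsg.Agent.H111.GLB

open Cfsg.Agent.H666.Clif
open Cfsg.Agent.Blocks.Covering (conjIrr conjIrr_apply sameBlock_conjIrr conjIrr_conjIrr conjIrr_one)

universe u

section

variable {M : Ideal AlgInt} {G : Type u} [Group G] [Finite G]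

/-- A `2`-block with a cyclic defect group has at most one irreducible Brauer character. -/
theorem blockRank_le_one_of_cyclic (hM : IsPModular 2 M) {B : Set (IrrCharacter G)} (hB : IsPBlock M B)
    {D : Subgroup G} (hD : IsDefectGroup 2 M B D) (hc : IsCyclic D) : blockRank 2 B ≤ 1 := by
  have hp : Fact (Nat.Prime 2) := ⟨Nat.prime_two⟩
  have hcard := Cfsg.Agent.S0908.result 2 M hM B hB D hD
  by_cases ha : 1 ≤ blockDefect 2 B
  · have hab : IsMulCommutative D :=
      ⟨⟨fun x y => (IsCyclic.commGroup (α := D)).mul_comm x y⟩⟩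
    obtain ⟨b, hb⟩ := H658.exists_root_centralizer hM hab hD hB
    obtain ⟨T, hT⟩ := H658.exists_stabilizer hM D hb.1
    have h1 := S4695.result 2 M hM D hc _ ha hcard B hB hD b hb T hT _ rfl
    obtain ⟨h2, -⟩ := S4696.result 2 M hM D hc _ ha hcard B hB hD b hb T hT _ rfl
    rw [h1]
    exact Nat.le_of_dvd Nat.one_pos h2
  · exact H617.SmallRank.blockRank_le_one hM hB (by omega)

end

section

variable {V : ValuationSubring ℂ} {M : Ideal AlgInt} {G : Type u} [Group G] [Finite G] {p : ℕ}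

/-- The odd part of a linear character. -/
theorem exists_coprime_part (hp : p.Prime) (S : Subgroup G) (l : G →* ℂˣ) (hl : ∀ x ∈ S, l x = 1) :
    ∃ l' : G →* ℂˣ, (∀ x ∈ S, l' x = 1) ∧ (orderOf l').Coprime p ∧ ∀ g, IsPRegular p g → l' g = l g := by
  have hpos : orderOf l ≠ 0 := by
    rw [Ne, orderOf_eq_zero_iff, not_not, isOfFinOrder_iff_pow_eq_one]
    refine ⟨Nat.card G, Nat.card_pos, ?_⟩
    ext g
    rw [MonoidHom.pow_apply, pow_lin]
    rfl
  obtain ⟨a, m, hm, ham⟩ := Nat.exists_eq_pow_mul_and_not_dvd hpos p hp.ne_one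
  have hmc : m.Coprime p := ((Nat.Prime.coprime_iff_not_dvd hp).2 hm).symm
  -- `k ≡ 1 mod m`, `k ≡ 0 mod p ^ a`
  obtain ⟨k, hk1, hk2⟩ := Nat.chineseRemainder (Nat.Coprime.pow_right a hmc) 1 0
  refine ⟨l ^ k, fun x hx => by rw [MonoidHom.pow_apply, hl x hx, one_pow], ?_, fun g hg => ?_⟩
  · refine Nat.Coprime.coprime_dvd_left (orderOf_dvd_of_pow_eq_one (n := m) ?_) hmc
    have h1 : p ^ a ∣ k := (Nat.modEq_zero_iff_dvd).1 hk2
    obtain ⟨t, ht⟩ := h1
    have h2 : k * m = orderOf l * t := by rw [ham, ht]; ring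
    ext g
    rw [MonoidHom.pow_apply, MonoidHom.pow_apply, ← pow_mul, h2, pow_mul, ← MonoidHom.pow_apply,
      pow_orderOf_eq_one, MonoidHom.one_apply, one_pow]
  · rw [MonoidHom.pow_apply]
    -- the order of `l g` is prime to `p` and divides `orderOf l`
    have h1 : orderOf (l g) ∣ orderOf g := orderOf_map_dvd l g
    have h2 : orderOf (l g) ∣ p ^ a * m := by
      rw [← ham]
      refine orderOf_dvd_of_pow_eq_one ?_
      rw [← MonoidHom.pow_apply, pow_orderOf_eq_one]
      rfl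
    have h3 : (orderOf (l g)).Coprime (p ^ a) :=
      (Nat.Coprime.pow_left a ((Nat.Prime.coprime_iff_not_dvd hp).2 fun h => hg (h.trans h1))).symm
    have h4 : orderOf (l g) ∣ m := h3.dvd_of_dvd_mul_left h2
    have h5 : k ≡ 1 [MOD orderOf (l g)] := hk1.of_dvd h4
    have h6 := pow_eq_pow_iff_modEq.2 h5
    rwa [pow_one] at h6

/-- Every member of `IBr(B)` has a constituent on `S` in a given covered block. -/
theorem exists_mem_ibrUnder (hM : IsPModular p M) (hV : Above M V) (S : Subgroup G) [S.Normal] [Fintype S]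
    (hcyc : IsCyclic (G ⧸ S)) {B : Set (IrrCharacter G)} (hB : IsPBlock M B) {c : Set (IrrCharacter S)}
    (hc : IsPBlock M c) (hcov : H648.Dict.Covers S B c) {i : IBr V G} (hi : i ∈ ibrUnder V B)
    {O : Finset (IBr V S)} (hO : IsRes p S i O) : ∃ j ∈ O, j ∈ ibrUnder V c := by
  classical
  have : Fact p.Prime := ⟨hM.1⟩
  have hMp := isPrime_of_isPModular hM
  have := Fintype.ofFinite G
  obtain ⟨O', hne, hO', h1, h2⟩ := H112.Clif.clifford_cyclic (V := V) hM hV S hcyc i
  rw [isRes_unique hM hV S hO' hO] at hne h1 h2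
  obtain ⟨j, hj⟩ := hne
  have hj1 := mem_ibrUnder_of hM hV S (H666.Clif.isUnion_of_isPBlock hMp hB) (isUnion_clos hMp (below S B))
    (subset_clos hMp _) hi hO hj
  obtain ⟨ε, ⟨ε', ⟨χ, hχ, hov⟩, hs⟩, hu⟩ := hj1
  have hc' : IsPBlock M (blockOf M (ε' : S → ℂ)) := ⟨ε', rfl⟩
  have hcov' : H648.Dict.Covers S B (blockOf M (ε' : S → ℂ)) :=
    ⟨χ, hχ, ε', Blocks.Induced.sameBlock_refl hMp _, (ov_iff S χ ε').1 hov⟩
  obtain ⟨g, hg⟩ := H648.HarrisKnorr.exists_conjN_of_covers S hM hB hc hc' hcov hcov'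
  have hj2 : j ∈ ibrUnder V (blockOf M (ε' : S → ℂ)) := ⟨ε, hs, hu⟩
  obtain ⟨j', hj', hjj⟩ := h1 j hj g
  refine ⟨j', hj', ?_⟩
  have h3 := ibrUnder_conj hM hV S g hc' hjj hj2
  rw [hg, conjN_eq, Set.image_image] at h3
  have h4 : (fun θ : IrrCharacter S => conjIrr S g (conjIrr S g⁻¹ θ)) = id := by
    funext θ
    exact conjIrr_inv' S g θ
  rwa [h4, Set.image_id] at h3

end

section

variable {V : ValuationSubring ℂ} {M : Ideal AlgInt} {G : Type u} [Group G] [Finite G]

/-- If the defect group of the `2`-block `B` meets `S` in a cyclic group, then any two irreducible Brauer characters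
of `B` differ by a linear character of `G / S` of odd order. -/
theorem exists_twist_of_cyclic (hM : IsPModular 2 M) (hV : Above M V) (S : Subgroup G) [S.Normal]
    (hcyc : IsCyclic (G ⧸ S)) {B : Set (IrrCharacter G)} (hB : IsPBlock M B) {D : Subgroup G}
    (hD : IsDefectGroup 2 M B D) (hDS : IsCyclic (D ⊓ S : Subgroup G)) {i i' : IBr V G}
    (hi : i ∈ ibrUnder V B) (hi' : i' ∈ ibrUnder V B) :
    ∃ l : G →* ℂˣ, (∀ x ∈ S, l x = 1) ∧ (orderOf l).Coprime 2 ∧ ∀ g, phi 2 i' g = (l g : ℂ) * phi 2 i g := by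
  classical
  have hp : Fact (Nat.Prime 2) := ⟨Nat.prime_two⟩
  have : CharP (ResidueField V) 2 := hV.charP hM
  have hMp := isPrime_of_isPModular hM
  have := Fintype.ofFinite G
  obtain ⟨c, hc, -, hcov, hcD⟩ := H648.Dict.exists_stable_covered (N := S) hM hB hD
  have hcc : IsCyclic ((D ⊓ S).subgroupOf S) :=
    isCyclic_of_surjective (Subgroup.subgroupOfEquivOfLe (inf_le_right : D ⊓ S ≤ S)).symm
      (Subgroup.subgroupOfEquivOfLe (inf_le_right : D ⊓ S ≤ S)).symm.surjective
  have h1 := blockRank_le_one_of_cyclic hM hc hcD hcc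
  rw [blockRank_eq_card hM hV (H666.Clif.isUnion_of_isPBlock hMp hc)] at h1
  have h2 : Subsingleton (ibrUnder V c) := by
    rw [← Finite.card_le_one_iff_subsingleton]
    exact h1
  obtain ⟨O, -, hO, -, -⟩ := H112.Clif.clifford_cyclic (V := V) hM hV S hcyc i
  obtain ⟨O', -, hO', -, -⟩ := H112.Clif.clifford_cyclic (V := V) hM hV S hcyc i'
  obtain ⟨j, hjO, hj⟩ := exists_mem_ibrUnder hM hV S hcyc hB hc hcov hi hO
  obtain ⟨j', hjO', hj'⟩ := exists_mem_ibrUnder hM hV S hcyc hB hc hcov hi' hO'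
  have hjj : j = j' := congrArg Subtype.val (Subsingleton.elim (⟨j, hj⟩ : ibrUnder V c) ⟨j', hj'⟩)
  subst hjj
  obtain ⟨l, hl, hl'⟩ := H112.Clif.over_unique hM hV S hcyc j i i' O O' hO hO' hjO hjO'
  obtain ⟨l', h3, h4, h5⟩ := exists_coprime_part Nat.prime_two S l hl
  refine ⟨l', h3, h4, fun g => ?_⟩
  by_cases hg : IsPRegular 2 g
  · rw [hl', h5 g hg]
  · rw [phi_of_not i' hg, phi_of_not i hg, mul_zero]

end

end Cfsg.Agent.H111.GLB
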