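import Cfsg.Agent.H111.GLB.E1
import Cfsg.Agent.H614.GLn.GB1
import Cfsg.Agent.H941.GLn.GB5

/-!
# HUB S4536: E1 with the labels of the linear characters (L1, L2) as the only hypotheses
-/

set_option autoImplicit false
set_option linter.unusedSectionVars false

open Cfsg
open scoped ComplexConjugate

namespace Cfsg.Agent.H111.GLB

open Cfsg.Agent.H577.GLB.Std Cfsg.Agent.H614 Cfsg.Agent.H112.GLB
open Cfsg.Agent.H657 Cfsg.Agent.H608.BlockRank Cfsg.Agent.Blocks.Basic Cfsg.Agent.Blocks.Local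
open Cfsg.Agent.H577.GLB.Real Cfsg.Agent.H614.GLn Cfsg.Agent.H624.Sl

universe u

variable {F K : Type u} [Field F] [Field K] [Algebra F K] {θ : K →*₀ ℂ} {N M : ℕ} [NeZero M]
  {𝔐 : Ideal AlgInt}

/-- **E1** (`not_isCyclic_two`), hypotheses: L1 and L2. -/
theorem not_isCyclic_two_of_lin [Finite F] (hctx : Ctx F θ N M) (hpF : 2 ≠ ringChar F) (h𝔐 : IsPModular 2 𝔐)
    {m n : ℕ} (hn : n ≤ N) (hm : n ≤ m) (t₀ : LabZ (Nat.card F) M m n)
    (h₀ : POnly M 2 t₀.t) (δ₀ : ZMod M) (h₁ : OnlyOn (Nat.card F) M δ₀ t₀.t)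
    (hw : H577.GLB.Std.bsz (t₀.t δ₀) = 2)
    (χ : IrrCharacter (GL (Fin n) F)) (hχ : IsLab θ M m n χ t₀)
    (hlin : ∀ l : GL (Fin n) F →* ℂˣ, (∀ x ∈ slS F n, l x = 1) → ∃ a : ZMod M, TorZ (Nat.card F) M 1 a ∧
      l = dch n (linH F θ M a))
    (hord : ∀ a : ZMod M, TorZ (Nat.card F) M 1 a → orderOf (dch n (linH F θ M a)) = addOrderOf a)
    (D : Subgroup (GL (Fin n) F)) (hD : IsDefectGroup 2 𝔐 (blockOf 𝔐 (χ : GL (Fin n) F → ℂ)) D) :
    ¬ IsCyclic (D ⊓ slS F n : Subgroup (GL (Fin n) F)) := by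
  have hMp := isPrime_of_isPModular h𝔐
  refine not_isCyclic_two_of hctx hpF h𝔐 hn hm (isLab_bij hctx hn hm) t₀ h₀ δ₀ h₁ hw χ hχ ?_ hlin hord D hD
  intro ψ t ht hf
  exact sameBlock_of_fam hctx hpF h𝔐 (by
    have := card_cast_two F hpF
    rwa [Int.cast_natCast] at this) hn hm ⟨χ, rfl⟩ (Blocks.Induced.sameBlock_refl hMp _) hχ ht hf

end Cfsg.Agent.H111.GLB
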