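import Cfsg.Agent.H111.GLB.E1b
import Cfsg.Agent.H583.GLn.Lin
import Cfsg.Agent.H501.GLn.FourC

/-!
# HUB S4536: E1 (`not_isCyclic_two`), exact text of `tools/plans/S4536_gl2.lean`
-/

set_option autoImplicit false
set_option linter.unusedSectionVars false

open Cfsg
open scoped ComplexConjugate

namespace Cfsg.Agent.H111.GLB

open Cfsg.Agent.H577.GLB.Std Cfsg.Agent.H614 Cfsg.Agent.H112.GLB
open Cfsg.Agent.H657 Cfsg.Agent.H608.BlockRank Cfsg.Agent.Blocks.Basic Cfsg.Agent.Blocks.Local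
open Cfsg.Agent.H577.GLB.Real Cfsg.Agent.H614.GLn Cfsg.Agent.H624.Sl

universe u

variable {F K : Type u} [Field F] [Finite F] [Field K] [Algebra F K] {θ : K →*₀ ℂ} {N M : ℕ} [NeZero M]
  {𝔐 : Ideal AlgInt}

/-- **E1**: `w = 2`: the defect group of a block of `SL` below `b(Δ²)` is not cyclic -/
theorem not_isCyclic_two (hctx : Ctx F θ N M) (hpF : 2 ≠ ringChar F) (h𝔐 : IsPModular 2 𝔐) {m n : ℕ} (hn : n ≤ N)
    (hm : n ≤ m) (t₀ : LabZ (Nat.card F) M m n) (h₀ : POnly M 2 t₀.t) (δ₀ : ZMod M)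
    (h₁ : OnlyOn (Nat.card F) M δ₀ t₀.t) (hw : H577.GLB.Std.bsz (t₀.t δ₀) = 2) (χ : IrrCharacter (GL (Fin n) F))
    (hχ : IsLab θ M m n χ t₀) (D : Subgroup (GL (Fin n) F))
    (hD : IsDefectGroup 2 𝔐 (blockOf 𝔐 (χ : GL (Fin n) F → ℂ)) D) :
    ¬ IsCyclic (D ⊓ slS F n : Subgroup (GL (Fin n) F)) := by
  have hQ := H421.GLn.isUnit_q hctx
  have hQ2 : ((Nat.card F : ℤ) : ZMod 2) = 1 := by
    have := Fintype.ofFinite F
    have h2 := FiniteField.odd_card_of_char_ne_two (F := F) hpF.symm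
    rw [Nat.card_eq_fintype_card, Int.cast_natCast, ← ZMod.natCast_mod, h2, Nat.cast_one]
  have hdeg := (H76.GLB.card_family_one Nat.prime_two hQ hQ2 hm t₀ h₀ δ₀ h₁).2.1
  rw [hw] at hdeg
  have hper : 0 < H577.GLB.Std.perZ (Nat.card F : ℤ) M δ₀ := H614.GLn.RSt.perZ_pos hQ δ₀
  have hn0 : 0 < n := by
    have : 1 * 2 ≤ H577.GLB.Std.perZ (Nat.card F : ℤ) M δ₀ * 2 := Nat.mul_le_mul_right _ hper
    omega
  have hN : 1 ≤ N := by omega
  refine not_isCyclic_two_of_lin hctx hpF h𝔐 hn hm t₀ h₀ δ₀ h₁ hw χ hχ ?_ ?_ D hD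
  · intro l hl
    obtain ⟨a, ha, -⟩ := H583.GLn.exists_label_of_lin hctx hN hn0 l hl
    exact ⟨a, ha⟩
  · intro a ha
    exact H583.GLn.orderOf_dch hctx hN hn0 a ha

end Cfsg.Agent.H111.GLB
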